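import Mathlib
import Groth.Prelude.Def_W4c2movlemaddchowShuffle

namespace Groth.Agent.ShuffleLib
open W4c2movlemaddchow

theorem extRight_castAdd (a t : ℕ) (σ : Equiv.Perm (Fin a)) (i : Fin a) :
    extRight a t σ (Fin.castAdd t i) = Fin.castAdd t (σ i) := by
  simp [extRight, Equiv.permCongr_apply]
theorem extRight_natAdd (a t : ℕ) (σ : Equiv.Perm (Fin a)) (l : Fin t) :
    extRight a t σ (Fin.natAdd a l) = Fin.natAdd a l := by
  simp [extRight, Equiv.permCongr_apply]
theorem extRight_inj (a t : ℕ) : Function.Injective (extRight a t) := fun σ σ' h => Equiv.ext fun i => by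
  have := congrArg (fun π : Equiv.Perm _ => π (Fin.castAdd t i)) h
  simpa [extRight_castAdd] using this

/-- embedding of the last `s + t` positions -/
def rAdd (r s t : ℕ) (k : Fin (s + t)) : Fin (r + s + t) := (finCongr (Nat.add_assoc r s t)).symm (Fin.natAdd r k)

theorem rAdd_castAdd (r s t : ℕ) (j : Fin s) : rAdd r s t (Fin.castAdd t j) = Fin.castAdd t (Fin.natAdd r j) :=
  Fin.ext (by simp [rAdd])
theorem rAdd_natAdd (r s t : ℕ) (l : Fin t) : rAdd r s t (Fin.natAdd s l) = Fin.natAdd (r + s) l :=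
  Fin.ext (by simp [rAdd]; omega)
theorem finCongr_castAdd (r s t : ℕ) (i : Fin r) :
    (finCongr (Nat.add_assoc r s t)).symm (Fin.castAdd (s + t) i) = Fin.castAdd t (Fin.castAdd s i) :=
  Fin.ext (by simp)
theorem extLeft_rAdd (r s t : ℕ) (σ : Equiv.Perm (Fin (s + t))) (k : Fin (s + t)) :
    extLeft r s t σ (rAdd r s t k) = rAdd r s t (σ k) := by
  simp only [extLeft, rAdd, Equiv.permCongr_apply, Equiv.symm_symm, Equiv.apply_symm_apply]
  simp
theorem extLeft_first (r s t : ℕ) (σ : Equiv.Perm (Fin (s + t))) (i : Fin r) :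
    extLeft r s t σ (Fin.castAdd t (Fin.castAdd s i)) = Fin.castAdd t (Fin.castAdd s i) := by
  rw [← finCongr_castAdd]
  simp only [extLeft, Equiv.permCongr_apply, Equiv.symm_symm, Equiv.apply_symm_apply]
  simp
theorem rAdd_inj (r s t : ℕ) : Function.Injective (rAdd r s t) :=
  (finCongr _).symm.injective.comp (Fin.natAdd_injective _ _)
theorem extLeft_inj (r s t : ℕ) : Function.Injective (extLeft r s t) := fun σ σ' h => Equiv.ext fun i => by
  have := congrArg (fun π : Equiv.Perm _ => π (rAdd r s t i)) h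
  simpa [extLeft_rAdd, (rAdd_inj r s t).eq_iff] using this

theorem shuffle_left_iff (r s t : ℕ) (τ : Equiv.Perm (Fin (r + s + t))) :
    IsShuffle₂ r (s + t) ((finCongr (Nat.add_assoc r s t)).permCongr τ) ↔
      Monotone (fun i : Fin r => τ (Fin.castAdd t (Fin.castAdd s i))) ∧ Monotone (fun k => τ (rAdd r s t k)) := by
  simp only [IsShuffle₂, Equiv.permCongr_apply, finCongr_castAdd]
  refine and_congr ⟨fun h i j hij => ?_, fun h i j hij => ?_⟩ ⟨fun h i j hij => ?_, fun h i j hij => ?_⟩ <;>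
    exact h hij

theorem mono_cast {a t : ℕ} : Monotone (Fin.castAdd t : Fin a → Fin (a + t)) := fun a b h => Fin.mk_le_mk.2 (show (a : ℕ) ≤ b from h)
theorem mono_nat {a t : ℕ} : Monotone (Fin.natAdd a : Fin t → Fin (a + t)) := fun a b h => Nat.add_le_add_left (show (a : ℕ) ≤ b from h) _
theorem mono_rAdd {r s t : ℕ} : Monotone (rAdd r s t) := fun a b h => Nat.add_le_add_left (show (a : ℕ) ≤ b from h) _

theorem mono_inv_sort {m n : ℕ} (f : Fin m → Fin n) (hf : Function.Injective f) {k : ℕ} (e : Fin k → Fin m)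
    (h : Monotone (f ∘ e)) : Monotone ((Tuple.sort f).symm ∘ e) := by
  intro i j hij
  have hs : StrictMono (f ∘ Tuple.sort f) :=
    (Tuple.monotone_sort f).strictMono_of_injective (hf.comp (Equiv.injective _))
  refine hs.le_iff_le.1 ?_
  simpa using h hij

end Groth.Agent.ShuffleLib
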